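import Cfsg.Agent.H233.B3.Row2
import Cfsg.Agent.H126.SepMain_m3
import Mathlib
import Cfsg.Agent.ClassicalGeometry.AutPSL.SylowU
import Cfsg.Agent.H199.PslAut
import Cfsg.Agent.LieClassical.SLGen
import Cfsg.Agent.Lib.FieldAutCard
import Cfsg.Agent.S2601
import Cfsg.Agent.FastGrp
import Cfsg.Agent.Prune
set_option linter.all false

section
prune_inst 0x7f00000000000000000000000000000000000000000000000000000000000000000000000000000000000000000000000000000000000000000000000000000000000000000000000000000000000000003fffffffffffffffffffffffffffbeffbdffffffff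

-- part: H233/B3/Row3
section
set_option linter.all false
open scoped Cfsg.Agent.FastGrp

/-!
# Tools for the rows `Row3 2 T` of S5761, third part (helper233)

* `row3_of_odd_out` : `|Out T|` odd;
* `lt_index_of_dvd` : a lower bound for the index of a 2-subgroup;
* `row3_of_hom_cyclic` : `Out T → C` with odd kernel, `C` cyclic;
* `row3_of_minIndex` : numbers (`2 |Out T| |T|_2 < m`, `m` a lower bound for the index of proper subgroups);
* `row3_of_frame` : defining characteristic, `|Out T|` divides `2 m |Γ|`.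
-/

set_option autoImplicit false

namespace Cfsg.Agent.H233.B3

open Subgroup Cfsg.Agent.H903.SylMeet

variable {T : Type*} [Group T]

/-- the map `P ∩ P ^ x → Out T` is injective -/
theorem injective_DD {P : Subgroup (MulAut T)} {x : T}
    (hx : ∀ y ∈ DD P x, y ∈ (MulAut.conj : T →* MulAut T).range → y = 1) :
    Function.Injective ((QuotientGroup.mk' (Cfsg.Inn T)).comp (DD P x).subtype) := by
  rw [injective_iff_map_eq_one]
  intro y hy
  have h1 : (y : MulAut T) ∈ (MulAut.conj : T →* MulAut T).range := (QuotientGroup.eq_one_iff _).1 hy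
  exact Subtype.ext (hx _ y.2 h1)

/-- `|Out T|` odd. -/
theorem row3_of_odd_out [Finite T] [IsSimpleGroup T] (hT : ¬ IsMulCommutative T)
    (h : ∀ R : Subgroup T, IsPGroup 2 R → ∃ x : T, ∀ y ∈ R, x * y * x⁻¹ ∈ R → y = 1)
    (ho : Odd (Nat.card (Cfsg.Out T))) : Row3 2 T := by
  intro P hP
  obtain ⟨x, hx⟩ := exists_of_meetIn hT h hP
  have hDp : IsPGroup 2 (DD P x) := hP.to_le inf_le_left
  have hF : Fact (Nat.Prime 2) := ⟨Nat.prime_two⟩
  obtain ⟨a, ha⟩ := hDp.exists_card_eq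
  have h1 := Subgroup.card_dvd_of_injective _ (injective_DD hx)
  have h2 : Nat.card (DD P x) ≤ 2 := by
    rw [ha] at h1 ⊢
    rcases Nat.eq_zero_or_pos a with h0 | h0
    · rw [h0]; norm_num
    · exfalso
      have h3 : 2 ∣ Nat.card (Cfsg.Out T) := (dvd_pow_self 2 h0.ne').trans h1
      obtain ⟨k, hk⟩ := ho
      omega
  exact g3_of_two hT hP x h2

/-- An odd divisor of `|T|` divides the index of a 2-subgroup. -/
theorem lt_index_of_dvd [Finite T] {m k : ℕ} (hm : Odd m) (hd : m ∣ Nat.card T) (hk : k < m) {Q : Subgroup T}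
    (hQ : IsPGroup 2 Q) : k < Q.index := by
  have hF : Fact (Nat.Prime 2) := ⟨Nat.prime_two⟩
  obtain ⟨a, ha⟩ := hQ.exists_card_eq
  have h1 := Subgroup.index_mul_card Q
  rw [ha] at h1
  have h2 : m ∣ Q.index := by
    rw [← h1] at hd
    exact (Nat.Coprime.pow_right a (Nat.coprime_two_right.2 hm)).dvd_of_dvd_mul_right hd
  exact lt_of_lt_of_le hk (Nat.le_of_dvd (Nat.pos_of_ne_zero Subgroup.index_ne_zero_of_finite) h2)

/-- `Out T → C` with kernel of odd order and `C` cyclic (multiplicatively written), `3 |C| < |T|_{2'}`. -/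
theorem row3_of_hom_cyclic [Finite T] [IsSimpleGroup T] (hT : ¬ IsMulCommutative T)
    (h : ∀ R : Subgroup T, IsPGroup 2 R → ∃ x : T, ∀ y ∈ R, x * y * x⁻¹ ∈ R → y = 1)
    {C : Type*} [Group C] [Finite C] [IsCyclic C] (φ : Cfsg.Out T →* C) (hk : Odd (Nat.card φ.ker))
    (hn : Nat.card C ≤ 4 ∨ ∀ Q : Subgroup T, IsPGroup 2 Q → 3 * Nat.card C < Q.index) : Row3 2 T := by
  intro P hP
  obtain ⟨x, hx⟩ := exists_of_meetIn hT h hP
  have hDp : IsPGroup 2 (DD P x) := hP.to_le inf_le_left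
  let ψ : DD P x →* C := φ.comp ((QuotientGroup.mk' (Cfsg.Inn T)).comp (DD P x).subtype)
  have hψ : Function.Injective ψ := by
    rw [injective_iff_map_eq_one]
    intro y hy
    have h1 : (QuotientGroup.mk' (Cfsg.Inn T)).comp (DD P x).subtype y ∈ φ.ker := hy
    obtain ⟨n, hn⟩ := hDp y
    have h2 : ((QuotientGroup.mk' (Cfsg.Inn T)).comp (DD P x).subtype y) ^ 2 ^ n = 1 := by
      rw [← map_pow, hn, map_one]
    have h3 : orderOf ((QuotientGroup.mk' (Cfsg.Inn T)).comp (DD P x).subtype y) ∣ Nat.card φ.ker := by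
      have := orderOf_dvd_natCard (⟨_, h1⟩ : φ.ker)
      rwa [← Subgroup.orderOf_coe] at this
    have h4 : Nat.Coprime (2 ^ n) (Nat.card φ.ker) := Nat.Coprime.pow_left _ (Nat.coprime_two_left.2 hk)
    have h5 := orderOf_eq_one_iff.1 (Nat.eq_one_of_dvd_coprimes h4 (orderOf_dvd_of_pow_eq_one h2) h3)
    exact injective_DD hx (by rw [h5, map_one])
  have hone : ∀ y ∈ DD P x, ∀ y' ∈ DD P x, y * y = 1 → y' * y' = 1 → y ≠ 1 → y' ≠ 1 → y = y' := by
    intro y hy y' hy' h1 h1' h2 h2'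
    have key : ∀ z : DD P x, z * z = 1 → z ≠ 1 → orderOf (ψ z) = 2 := by
      intro z hz hz1
      rw [orderOf_injective ψ hψ]
      exact orderOf_eq_prime (by rw [pow_two]; exact hz) hz1
    have k1 := key ⟨y, hy⟩ (Subtype.ext h1) (fun e => h2 (congrArg Subtype.val e))
    have k2 := key ⟨y', hy'⟩ (Subtype.ext h1') (fun e => h2' (congrArg Subtype.val e))
    have h3 : ψ ⟨y, hy⟩ = ψ ⟨y', hy'⟩ := by
      have hF : Fact (Nat.Prime 2) := ⟨Nat.prime_two⟩
      obtain ⟨e1, e2⟩ := (orderOf_eq_prime_iff (p := 2)).1 k1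
      obtain ⟨e3, e4⟩ := (orderOf_eq_prime_iff (p := 2)).1 k2
      obtain ⟨k, hk⟩ := mem_zpowers_of_cyclic (p := 2) _ _ e1 e2 e3
      rcases Int.even_or_odd' k with ⟨j, rfl | rfl⟩
      · exfalso
        apply e4
        rw [← hk, zpow_mul]
        have : ψ ⟨y, hy⟩ ^ (2 : ℤ) = 1 := by exact_mod_cast e1
        rw [this, one_zpow]
      · rw [zpow_add, zpow_mul, zpow_one] at hk
        have : ψ ⟨y, hy⟩ ^ (2 : ℤ) = 1 := by exact_mod_cast e1
        rw [this, one_zpow, one_mul] at hk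
        exact hk
    exact congrArg Subtype.val (hψ h3)
  have hcard : Nat.card (DD P x) ≤ Nat.card C := Nat.card_le_card_of_injective ψ hψ
  rcases hn with hn | hn
  · exact g3_of_four hT hP x hone (hcard.trans hn)
  · exact g3_of_one hT hP x hone (lt_of_le_of_lt (Nat.mul_le_mul_left 3 hcard) (hn _ (inn_pgroup hT hP)))

end Cfsg.Agent.H233.B3
end

-- part: H233/B3/RowChar
section
set_option linter.all false
open scoped Cfsg.Agent.FastGrp

/-!
# Rows `Row3 2 T` in defining characteristic, abstract form (helper233)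

As `H185.MeetChar.meet_of_frame`, with `|Out T|` dividing `2 m |Γ|` (one graph automorphism is allowed).
-/

set_option autoImplicit false

namespace Cfsg.Agent.H233.B3

open Subgroup Cfsg.Agent.H903.SylMeet Cfsg.Agent.H185.MeetChar

variable {T : Type*} [Group T]

theorem row3_of_frame [Finite T] [IsSimpleGroup T] (hT : ¬ IsMulCommutative T)
    {U : Subgroup T} (hU : IsPGroup 2 U) (hUi : ¬ 2 ∣ U.index)
    {Γ : Type*} [Group Γ] [Finite Γ] (st : Γ →* MulAut T) (hst : ∀ γ, ∀ u ∈ U, st γ u ∈ U)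
    {m : ℕ} (hm : ¬ 2 ∣ m) (hout : Nat.card (Cfsg.Out T) ∣ 2 * m * Nat.card Γ)
    (k t : T) (hk : ∀ γ, st γ k = k) (hkU : ∀ u ∈ U, k * u * k⁻¹ ∈ U → u = 1)
    (hopp : ∀ u ∈ U, ∀ γ, t * (k * u * k⁻¹) * (st γ t)⁻¹ ∈ U → u = 1)
    (hreg : ∀ γ, (∃ n, γ ^ 2 ^ n = 1) → t * (st γ t)⁻¹ ∈ U → γ = 1) : Row3 2 T := by
  have hF : Fact (Nat.Prime 2) := ⟨Nat.prime_two⟩
  have hp : Nat.Prime 2 := Nat.prime_two
  have hinj := conj_injective (T := T) hT
  obtain ⟨S⟩ : Nonempty (Sylow 2 Γ) := inferInstance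
  have hS : ∀ γ ∈ (S : Subgroup Γ), ∃ n, γ ^ 2 ^ n = 1 := by
    intro γ hγ
    obtain ⟨n, hn⟩ := S.isPGroup' ⟨γ, hγ⟩
    exact ⟨n, by simpa using congrArg Subtype.val hn⟩
  -- `D ∩ Inn T = 1`
  have hDI : ∀ γ ∈ (S : Subgroup Γ), ∀ g : T, MulAut.conj g = st γ → γ = 1 := by
    intro γ hγ g hg
    obtain ⟨n, hn⟩ := hS γ hγ
    have hgn : g ^ 2 ^ n = 1 := by
      apply hinj
      rw [map_pow, hg, ← map_pow, hn, map_one, map_one]
    have hgU : g ∈ U := by
      apply Cfsg.Agent.H185.MeetChar.mem_of_normalises hU hUi hgn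
      intro u hu
      have := hst γ u hu
      rw [← hg] at this
      exact this
    have h1 : g * k * g⁻¹ = k := by
      have := hk γ
      rw [← hg] at this
      exact this
    have h2 : k * g * k⁻¹ = g := by
      rw [mul_inv_eq_iff_eq_mul, ← mul_inv_eq_iff_eq_mul.1 h1]
    have h3 : g = 1 := hkU g hgU (by rw [h2]; exact hgU)
    have h4 : st γ = 1 := by rw [← hg, h3, map_one]
    exact hreg γ ⟨n, hn⟩ (by rw [h4]; simp)
  have huniq : ∀ u ∈ U, ∀ u' ∈ U, ∀ γ ∈ (S : Subgroup Γ), ∀ γ' ∈ (S : Subgroup Γ), ∀ g : T,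
      MulAut.conj g * st γ = MulAut.conj u' * st γ' → γ = γ' ∧ g = u' := by
    intro u _ u' _ γ hγ γ' hγ' g h
    have h1 : MulAut.conj (u'⁻¹ * g) = st (γ' * γ⁻¹) := by
      rw [map_mul, map_mul, map_inv, map_inv, inv_mul_eq_iff_eq_mul, ← mul_assoc, ← h, mul_assoc, mul_inv_cancel,
        mul_one]
    have h2 := hDI _ (mul_mem hγ' (inv_mem hγ)) _ h1
    have h3 : γ = γ' := (mul_inv_eq_one.1 h2).symm
    refine ⟨h3, ?_⟩
    subst h3
    exact hinj (mul_right_cancel h)
  -- the order of `P`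
  have hcard : Nat.card ↥(PP U (S : Subgroup Γ) st hst) = Nat.card U * Nat.card S := by
    rw [← Nat.card_prod]
    symm
    refine Nat.card_congr (Equiv.ofBijective (fun a => ⟨MulAut.conj (a.1 : T) * st (a.2 : Γ),
      ⟨a.1, a.1.2, a.2, a.2.2, rfl⟩⟩) ⟨?_, ?_⟩)
    · rintro ⟨⟨u, hu⟩, ⟨γ, hγ⟩⟩ ⟨⟨u', hu'⟩, ⟨γ', hγ'⟩⟩ h
      obtain ⟨h1, h2⟩ := huniq u hu u' hu' γ hγ γ' hγ' u (congrArg Subtype.val h)
      subst h1
      subst h2
      rfl
    · rintro ⟨y, u, hu, γ, hγ, rfl⟩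
      exact ⟨⟨⟨u, hu⟩, ⟨γ, hγ⟩⟩, rfl⟩
  obtain ⟨a, ha⟩ := hU.exists_card_eq
  obtain ⟨b, hb⟩ := S.isPGroup'.exists_card_eq
  have hPp : IsPGroup 2 ↥(PP U (S : Subgroup Γ) st hst) := by
    apply IsPGroup.of_card (n := a + b)
    rw [hcard, ha, hb, pow_add]
  obtain ⟨S2, hS2⟩ := hPp.exists_le_sylow
  -- the index in a Sylow subgroup is at most two
  have h4 : ¬ 4 ∣ (PP U (S : Subgroup Γ) st hst).index := by
    intro hdvd
    have h1 := Subgroup.card_mul_index (PP U (S : Subgroup Γ) st hst)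
    rw [hcard, ← Cfsg.Agent.H934.OutB.card_out_mul T hT] at h1
    have h2 := U.card_mul_index
    have h3 := (S : Subgroup Γ).card_mul_index
    have h4 : 2 * 2 * (Nat.card U * Nat.card S) ∣
        2 * m * (Nat.card S * (S : Subgroup Γ).index) * (Nat.card U * U.index) := by
      rw [h2, h3]
      refine dvd_trans ?_ (mul_dvd_mul_right hout _)
      rw [← h1, mul_comm (2 * 2)]
      exact mul_dvd_mul_left _ hdvd
    have h5 : 2 * m * (Nat.card S * (S : Subgroup Γ).index) * (Nat.card U * U.index) =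
        (2 * (m * (S : Subgroup Γ).index * U.index)) * (Nat.card U * Nat.card S) := by ring
    rw [h5] at h4
    have h6 := Nat.dvd_of_mul_dvd_mul_right (Nat.mul_pos Nat.card_pos Nat.card_pos) h4
    have h6' := Nat.dvd_of_mul_dvd_mul_left (by norm_num) h6
    rcases (hp.dvd_mul.1 h6') with h7 | h7
    · rcases (hp.dvd_mul.1 h7) with h8 | h8
      · exact hm h8
      · exact S.not_dvd_index h8
    · exact hUi h7
  have hrel : (PP U (S : Subgroup Γ) st hst).relIndex (S2 : Subgroup (MulAut T)) ≤ 2 := by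
    obtain ⟨c, hc⟩ := S2.isPGroup'.exists_card_eq
    have hc' : Nat.card (S2 : Subgroup (MulAut T)) = 2 ^ c := hc
    have h1 : (PP U (S : Subgroup Γ) st hst).relIndex (S2 : Subgroup (MulAut T)) ∣ 2 ^ c := by
      rw [← hc']
      exact Subgroup.relIndex_dvd_card _ _
    obtain ⟨j, -, hj⟩ := (Nat.dvd_prime_pow hp).1 h1
    have h2 : (PP U (S : Subgroup Γ) st hst).relIndex (S2 : Subgroup (MulAut T)) ∣
        (PP U (S : Subgroup Γ) st hst).index := Subgroup.relIndex_dvd_index_of_le hS2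
    rw [hj] at h2 ⊢
    rcases Nat.lt_or_ge j 2 with h3 | h3
    · interval_cases j <;> norm_num
    · exact absurd ((pow_dvd_pow 2 h3).trans h2) h4
  have hUle : U ≤ inn (S2 : Subgroup (MulAut T)) := by
    intro u hu
    rw [mem_inn]
    apply hS2
    rw [mem_PP]
    exact ⟨u, hu, 1, one_mem _, by simp⟩
  have hinnU : inn (S2 : Subgroup (MulAut T)) = U := by
    have hmax := (hU.toSylow hUi).is_maximal' (inn_pgroup hT S2.isPGroup') hUle
    exact hmax
  refine row3_of_index (S2 : Subgroup (MulAut T)) S2.isPGroup' S2.not_dvd_index ?_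
  refine g3_of_le hT S2.isPGroup' _ hS2 ?_ hrel (t * k) ?_
  · intro s hs
    have h1 : s ∈ U := by
      rw [← hinnU, mem_inn]
      exact hs
    rw [mem_PP]
    exact ⟨s, h1, 1, one_mem _, by simp⟩
  · rintro _ ⟨u, hu, γ, hγ, rfl⟩ h
    rw [conj_mul_aut] at h
    obtain ⟨u', hu', γ', hγ', h'⟩ := h
    obtain ⟨-, h1⟩ := huniq u hu u' hu' γ hγ γ' hγ' _ h'
    have h2 : t * k * u * (st γ (t * k))⁻¹ = t * (k * u * k⁻¹) * (st γ t)⁻¹ := by
      rw [map_mul, hk]
      group
    rw [h2] at h1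
    have h3 : u = 1 := hopp u hu γ (by rw [h1]; exact hu')
    subst h3
    have h4 : γ = 1 := by
      apply hreg γ (hS γ hγ)
      have : t * (st γ t)⁻¹ = t * (k * 1 * k⁻¹) * (st γ t)⁻¹ := by group
      rw [this, h1]
      exact hu'
    rw [h4, map_one, map_one, mul_one]

end Cfsg.Agent.H233.B3
end

-- part: H973/B3/PSL
section
set_option linter.all false
open scoped Cfsg.Agent.FastGrp

/-!
# S5761, row B5: `Row3 2 (PSL_n(2^f))`, `n ≥ 3` (task 2824, poster helper233)
-/

set_option autoImplicit false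

namespace Cfsg.Agent.H973.B3

open Subgroup Matrix
open Cfsg.Agent.H233.B3
open Cfsg.Agent.ClassicalGeometry.AutPSL.Root
open Cfsg.Agent.ClassicalGeometry.AutPSL.Auto
open Cfsg.Agent.ClassicalGeometry.AutPSL.Main
open Cfsg.Agent.ClassicalGeometry.AutPSL.SylowU
open Cfsg.Agent.H199.PslAut (phi phi_pr)

universe u

variable {F : Type u} [Field F] {n : ℕ}

/-- `PSL_n(F)`, `n ≥ 3`, is not commutative -/
theorem not_comm (hn : 3 ≤ n) : ¬ IsMulCommutative (ProjectiveSpecialLinearGroup (Fin n) F) := by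
  intro hc
  have h3 : 3 ≤ Fintype.card (Fin n) := by rw [Fintype.card_fin]; exact hn
  have h0 := LieClassical.SLGen.psl_isSimpleGroup (F := F) h3
  have h1 : Group.IsPerfect (SpecialLinearGroup (Fin n) F) := ⟨LieClassical.SLGen.commutator_eq_top h3⟩
  have h2 : Group.IsPerfect (ProjectiveSpecialLinearGroup (Fin n) F) := inferInstance
  have h4 : commutator (ProjectiveSpecialLinearGroup (Fin n) F) = ⊥ := by
    rw [commutator_def, Subgroup.commutator_eq_bot_iff_le_centralizer]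
    intro x _ y _
    exact hc.is_comm.comm y x
  have h5 := h2.commutator_eq_top
  rw [h4] at h5
  obtain ⟨x, y, hxy⟩ := h0.exists_pair_ne
  exact hxy ((Subgroup.mem_bot.1 (h5 ▸ Subgroup.mem_top x)).trans (Subgroup.mem_bot.1 (h5 ▸ Subgroup.mem_top y)).symm)

/-- the longest element of the Weyl group as a permutation matrix, characteristic two -/
noncomputable def KK (n : ℕ) (F : Type u) [Field F] [CharP F 2] : SpecialLinearGroup (Fin n) F :=
  ⟨(Fin.revPerm : Equiv.Perm (Fin n)).permMatrix F, by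
    rw [Matrix.det_permutation]
    rcases Int.units_eq_one_or (Equiv.Perm.sign (Fin.revPerm : Equiv.Perm (Fin n))) with h | h
    · rw [h]; simp
    · rw [h]
      simp only [Units.val_neg, Units.val_one, Int.cast_neg, Int.cast_one]
      exact CharTwo.neg_eq 1⟩

theorem KK_mul [CharP F 2] (g : SpecialLinearGroup (Fin n) F) (i j : Fin n) :
    (KK n F * g).1 i j = g.1 (Fin.rev i) j := by
  have h : ((Fin.revPerm : Equiv.Perm (Fin n)).toPEquiv.toMatrix : Matrix (Fin n) (Fin n) F) * g.1 =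
      g.1.submatrix Fin.revPerm id := PEquiv.toMatrix_toPEquiv_mul _ _
  exact congrFun (congrFun h i) j

theorem mul_KK [CharP F 2] (g : SpecialLinearGroup (Fin n) F) (i j : Fin n) :
    (g * KK n F).1 i j = g.1 i (Fin.rev j) := by
  have h : g.1 * ((Fin.revPerm : Equiv.Perm (Fin n)).toPEquiv.toMatrix : Matrix (Fin n) (Fin n) F) =
      g.1.submatrix id (Fin.revPerm : Equiv.Perm (Fin n)).symm := PEquiv.mul_toMatrix_toPEquiv _ _
  exact congrFun (congrFun h i) j

theorem KK_sq [CharP F 2] : KK n F * KK n F = 1 := by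
  have h : (KK n F).1 * (KK n F).1 = (KK n F * KK n F).1 := rfl
  apply Subtype.ext
  ext i j
  rw [KK_mul]
  have h1 : (KK n F).1 (Fin.rev i) j = (KK n F * 1).1 (Fin.rev i) j := by rw [mul_one]
  rw [h1, KK_mul, Fin.rev_rev]

theorem KK_inv [CharP F 2] : (KK n F)⁻¹ = KK n F := inv_eq_of_mul_eq_one_left KK_sq

theorem KK_conj [CharP F 2] (g : SpecialLinearGroup (Fin n) F) (i j : Fin n) :
    (KK n F * g * (KK n F)⁻¹).1 i j = g.1 (Fin.rev i) (Fin.rev j) := by
  rw [KK_inv, mul_KK, KK_mul]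

/-- the torus element -/
noncomputable def DD0 (hn : 3 ≤ n) (a : Fˣ) : SpecialLinearGroup (Fin n) F :=
  SpecialLinearGroup.diag2n (show (⟨0, by omega⟩ : Fin n) ≠ ⟨1, by omega⟩ by simp) (a : F) a.ne_zero

theorem DD0_coe (hn : 3 ≤ n) (a : Fˣ) : ((DD0 hn a : SpecialLinearGroup (Fin n) F) : Matrix (Fin n) (Fin n) F) =
    diagonal fun k => if k = ⟨0, by omega⟩ then (a : F) else if k = ⟨1, by omega⟩ then (a : F)⁻¹ else 1 := rfl

variable [Finite F]

/-- **separation**: `D (k g k⁻¹) D'⁻¹` upper unitriangular up to scalars, `D`, `D'` diagonal -/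
theorem sep [CharP F 2] {g h A B : SpecialLinearGroup (Fin n) F} (hg : g ∈ upper n F) (hh : h ∈ upper n F)
    {d e : Fin n → F} (hA : A.1 = diagonal d) (hB : B.1 = diagonal e)
    (heq : pr (A * (KK n F * g * (KK n F)⁻¹) * B⁻¹) = pr h) : g = 1 := by
  have hd : ∀ i, d i ≠ 0 := by
    intro i h0
    have h1 := A.2
    rw [hA, det_diagonal] at h1
    rw [Finset.prod_eq_zero (Finset.mem_univ i) h0] at h1
    exact zero_ne_one h1
  have h1 : pr (A * (KK n F * g * (KK n F)⁻¹)) = pr (h * B) := by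
    rw [map_mul (pr) h B, ← heq, ← map_mul, inv_mul_cancel_right]
  obtain ⟨c, hc⟩ := exists_smul_of_pr_eq h1
  have h2 : ∀ i j, h.1 i j * e j = c * (d i * g.1 (Fin.rev i) (Fin.rev j)) := by
    intro i j
    have h3 : (h * B).1 i j = (c • (A * (KK n F * g * (KK n F)⁻¹)).1) i j := by rw [← hc]
    have h4 : (h * B).1 i j = h.1 i j * e j := by
      change (h.1 * B.1) i j = _
      rw [hB, mul_diagonal]
    have h5 : (A * (KK n F * g * (KK n F)⁻¹)).1 i j = d i * g.1 (Fin.rev i) (Fin.rev j) := by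
      change (A.1 * (KK n F * g * (KK n F)⁻¹).1) i j = _
      rw [hA, diagonal_mul, KK_conj]
    rw [← h4, h3, Matrix.smul_apply, h5, smul_eq_mul]
  rw [mem_upper] at hg hh
  have hB0 : ∀ j, e j ≠ 0 := by
    intro j h0
    have h1 := B.2
    rw [hB, det_diagonal] at h1
    rw [Finset.prod_eq_zero (Finset.mem_univ j) h0] at h1
    exact zero_ne_one h1
  apply Subtype.ext
  ext i j
  rcases le_or_gt j i with hij | hij
  · rw [hg i j hij]
    change _ = (1 : Matrix (Fin n) (Fin n) F) i j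
    rw [one_apply]
  · have h3 := h2 (Fin.rev i) (Fin.rev j)
    rw [Fin.rev_rev, Fin.rev_rev, hh _ _ (Fin.rev_le_rev.2 hij.le)] at h3
    have hne : Fin.rev i ≠ Fin.rev j := fun h => hij.ne (Fin.rev_injective h)
    rw [if_neg hne, zero_mul] at h3
    have hc0 : c ≠ 0 := by
      rintro rfl
      have h4 := h2 i i
      rw [hh i i le_rfl, if_pos rfl, zero_mul, one_mul] at h4
      exact hB0 i h4
    have h5 : g.1 i j = 0 := by
      rcases mul_eq_zero.1 h3.symm with h6 | h6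
      · exact absurd h6 hc0
      · rcases mul_eq_zero.1 h6 with h7 | h7
        · exact absurd h7 (hd _)
        · exact h7
    change g.1 i j = (1 : Matrix (Fin n) (Fin n) F) i j
    rw [h5, one_apply_ne hij.ne]

omit [Finite F] in
/-- the characteristic -/
theorem char_eq [Fintype F] {f c : ℕ} [CharP F c] (hF : Fintype.card F = 2 ^ f) : c = 2 := by
  obtain ⟨m, hp, hc⟩ := FiniteField.card F c
  have h1 : c ∣ 2 ^ f := by
    rw [← hF, hc]
    exact dvd_pow_self c m.ne_zero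
  exact (Nat.prime_dvd_prime_iff_eq hp Nat.prime_two).1 (hp.dvd_of_dvd_pow h1)

/-- **Row B5.** -/
theorem row3_psl {F : Type u} [Field F] [Fintype F] {f n : ℕ} (hf : 1 ≤ f) (hF : Fintype.card F = 2 ^ f)
    (hn : 3 ≤ n) : Row3 2 (ProjectiveSpecialLinearGroup (Fin n) F) := by
  classical
  have : Fact (Nat.Prime 2) := ⟨Nat.prime_two⟩
  have hchar : CharP F 2 := by
    obtain ⟨c, hc⟩ := CharP.exists F
    have : c = 2 := char_eq hF
    exact this ▸ hc
  have hs : IsSimpleGroup (ProjectiveSpecialLinearGroup (Fin n) F) :=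
    LieClassical.SLGen.psl_isSimpleGroup (by rw [Fintype.card_fin]; exact hn)
  obtain ⟨S, hS⟩ := exists_sylow (F := F) n 2
  have hU : IsPGroup 2 ↥((upper n F).map pr) := hS ▸ S.isPGroup'
  have hUi : ¬ 2 ∣ ((upper n F).map (pr (F := F))).index := by
    rw [← hS]
    exact S.not_dvd_index
  have hRA : Nat.card (F ≃+* F) = f := Cfsg.Agent.Lib.FieldAutCard.card_ringAut (by omega) hF
  have hfinR : Finite (F ≃+* F) := Finite.of_injective (fun σ : F ≃+* F => (σ : F → F)) DFunLike.coe_injective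
  obtain ⟨a, ha⟩ := Cfsg.Agent.H126.SepMain.exists_gen (F := F)
  have hfldD : ∀ γ : F ≃+* F, (fld γ (DD0 hn a)).1 =
      diagonal fun k => if k = ⟨0, by omega⟩ then γ a else if k = ⟨1, by omega⟩ then γ (a : F)⁻¹ else 1 := by
    intro γ
    ext i j
    rw [coe_fld_apply, DD0_coe, diagonal_apply, diagonal_apply]
    split_ifs <;> simp
  refine row3_of_frame (not_comm hn) (U := (upper n F).map pr) hU hUi (phi n F) ?_
    (m := Nat.gcd n (2 ^ f - 1)) ?_ ?_ (pr (KK n F)) (pr (DD0 hn a)) ?_ ?_ ?_ ?_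
  · rintro γ _ ⟨g, hg, rfl⟩
    refine ⟨fld γ g, ?_, rfl⟩
    have hg' := mem_upper.1 hg
    refine mem_upper.2 fun i j hij => ?_
    rw [coe_fld_apply, hg' i j hij]
    split_ifs <;> simp
  · intro h
    have h1 := h.trans (Nat.gcd_dvd_right _ _)
    have h2 : 2 ∣ 2 ^ f := dvd_pow_self 2 (by omega)
    have h3 : 1 ≤ 2 ^ f := Nat.one_le_two_pow
    omega
  · rw [hRA]
    obtain ⟨φ, hφ, -, hk⟩ := Cfsg.Agent.S2601.result (F := F) (p := 2) hf hF hn
    have : NeZero f := ⟨by omega⟩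
    have h1 := Subgroup.card_mul_index φ.ker
    have h2 : φ.ker.index = 2 * f := by
      rw [Subgroup.index_ker, MonoidHom.range_eq_top.2 hφ, Subgroup.card_top]
      rw [Nat.card_congr Multiplicative.toAdd, Nat.card_prod, Nat.card_zmod, Nat.card_zmod, mul_comm]
    rw [hk, h2] at h1
    rw [← h1]
    exact ⟨1, by ring⟩
  · intro γ
    rw [phi_pr]
    congr 1
    apply Subtype.ext
    ext i j
    rw [coe_fld_apply]
    change γ (((Fin.revPerm : Equiv.Perm (Fin n)).toPEquiv.toMatrix : Matrix (Fin n) (Fin n) F) i j) =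
      ((Fin.revPerm : Equiv.Perm (Fin n)).toPEquiv.toMatrix : Matrix (Fin n) (Fin n) F) i j
    rw [PEquiv.toMatrix_apply]
    split_ifs <;> simp
  · rintro _ ⟨g, hg, rfl⟩ ⟨h, hh, he⟩
    have h1 : pr ((1 : SpecialLinearGroup (Fin n) F) * (KK n F * g * (KK n F)⁻¹) * (1 : SpecialLinearGroup (Fin n) F)⁻¹) =
        pr h := by
      rw [he, one_mul, inv_one, mul_one, map_mul, map_mul, map_inv]
    rw [sep hg hh (d := fun _ => 1) (e := fun _ => 1) (A := 1) (B := 1) diagonal_one.symm diagonal_one.symm h1, map_one]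
  · rintro _ ⟨g, hg, rfl⟩ γ ⟨h, hh, he⟩
    have h1 : pr (DD0 hn a * (KK n F * g * (KK n F)⁻¹) * (fld γ (DD0 hn a))⁻¹) = pr h := by
      rw [he, map_mul, map_mul, map_mul, map_mul, map_inv, map_inv, phi_pr]
    rw [sep hg hh (DD0_coe hn a) (hfldD γ) h1, map_one]
  · rintro γ - ⟨h, hh, he⟩
    have h1 : pr (h * fld γ (DD0 hn a)) = pr (DD0 hn a) := by
      rw [map_mul, he, phi_pr, inv_mul_cancel_right]
    obtain ⟨c, hc⟩ := exists_smul_of_pr_eq h1
    have hh' := mem_upper.1 hh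
    have h2 : ∀ i : Fin n, (DD0 hn a).1 i i = c * (fld γ (DD0 hn a)).1 i i := by
      intro i
      have h3 : (DD0 hn a).1 i i = (c • (h * fld γ (DD0 hn a)).1) i i := by rw [← hc]
      have h4 : (h * fld γ (DD0 hn a)).1 i i = (fld γ (DD0 hn a)).1 i i := by
        change (h.1 * (fld γ (DD0 hn a)).1) i i = _
        rw [hfldD, mul_diagonal, hh' i i le_rfl, if_pos rfl, one_mul, diagonal_apply_eq]
      rw [h3, Matrix.smul_apply, h4, smul_eq_mul]
    have h3 := h2 ⟨2, by omega⟩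
    have e1 : ¬ ((⟨2, by omega⟩ : Fin n) = ⟨0, by omega⟩) := by simp
    have e2 : ¬ ((⟨2, by omega⟩ : Fin n) = ⟨1, by omega⟩) := by simp
    rw [hfldD, DD0_coe, diagonal_apply_eq, diagonal_apply_eq] at h3
    simp only [if_neg e1, if_neg e2, mul_one] at h3
    have h4 := h2 ⟨0, by omega⟩
    rw [hfldD, DD0_coe, diagonal_apply_eq, diagonal_apply_eq, if_pos rfl, if_pos rfl, ← h3, one_mul] at h4
    exact ha γ h4.symm

end Cfsg.Agent.H973.B3
end
end
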